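import Cfsg.Agent.H968.TW.FieldEnd
import Cfsg.Agent.H679.CentField
import Cfsg.Agent.H607.TW.Outer

/-!
# S3694, T14: the field case, `n ≥ 3` (helper968)
-/

set_option autoImplicit false

namespace Cfsg.Agent.H968.TW

open Subgroup Cfsg.Agent.H607.TW

universe u

variable {G : Type u} [Group G] [Finite G] {N A C A₁ C₁ A₂ C₂ X : Subgroup G} {r d : ℕ} {F : Type} [Field F] [Fintype F]
  {n : ℕ} {S : Type} [Group S] {ι : S →* Matrix.GeneralLinearGroup (Fin n) F} {π : S →* G}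

/-- T14 (contradiction) -/
theorem end_field_false (h : Sit N A C A₁ C₁ A₂ C₂ r d) (hn : 3 ≤ n) (hM : Model N ι π) (hC : CompAx ι π A)
    (hcyc : CycAx ι π N)
    (hfld : ∀ x : G, Loc N A r → x ^ r = 1 → x ≠ 1 → (∀ y ∈ A ⊓ N, x * y = y * x) →
      (∀ y ∈ N, x * y = y * x → y ∈ A) → A ⊓ N ≠ ⊥ → ∀ (B : Matrix.GeneralLinearGroup (Fin n) F) (σ : F ≃+* F), σ ≠ 1 →
      Ind ι π x (tauP B σ) → r = 2)
    (hX : MinX N A X r) (hab : ∀ s t : S, π s ∈ X → π t ∈ X → s * t = t * s)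
    (hinv : ∀ b ∈ Algebra.adjoin F (mt ι '' {s | π s ∈ X}), b ≠ 0 → ∃ c ∈ Algebra.adjoin F (mt ι '' {s | π s ∈ X}), b * c = 1) :
    False := by
  have hT : T12a F n := fun B h1 h2 => Cfsg.Agent.H679.CentField.exists_phi_centralizer (by omega) B h1 h2
  refine end_field_core hT h hn hM hC hfld hX hab hinv fun hA => ?_
  obtain ⟨x, hx, hx1, hxr, -, -, h1, h2, -⟩ := outer h.locA hM hcyc h.A₂_OO_A h.A₂_norm h.A₂_ne hA
  exact ⟨x, hx, hxr, hx1, h1, h2⟩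

/-- T14 : the field case, `n ≥ 3` -/
theorem end_field (h : Sit N A C A₁ C₁ A₂ C₂ r d)
    (_hr : ¬ r ∣ Fintype.card F) (hn : 3 ≤ n) (hM : Model N ι π) (hC : CompAx ι π A) (hcyc : CycAx ι π N)
    (hfld : ∀ (A' : Subgroup G) (x : G), Loc N A' r → x ^ r = 1 → x ≠ 1 → (∀ y ∈ A' ⊓ N, x * y = y * x) →
      (∀ y ∈ N, x * y = y * x → y ∈ A') → A' ⊓ N ≠ ⊥ → ∀ (B : Matrix.GeneralLinearGroup (Fin n) F) (σ : F ≃+* F), σ ≠ 1 →
      Ind ι π x (tauP B σ) → r = 2 ∨ Nat.card ↥A' ≤ M 5)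
    (hX : MinX N A X r) (hab : ∀ s t : S, π s ∈ X → π t ∈ X → s * t = t * s)
    (hinv : ∀ b ∈ Algebra.adjoin F (mt ι '' {s | π s ∈ X}), b ≠ 0 → ∃ c ∈ Algebra.adjoin F (mt ι '' {s | π s ∈ X}), b * c = 1) :
    Nat.card ↥A ≤ M d := by
  by_cases hA : Nat.card ↥A ≤ M 5
  · exact h.card_le_M hA
  · refine (end_field_false h hn hM hC hcyc (fun x h1 h2 h3 h4 h5 h6 B σ hσ h7 => ?_) hX hab hinv).elim
    exact (hfld A x h1 h2 h3 h4 h5 h6 B σ hσ h7).resolve_right hA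

end Cfsg.Agent.H968.TW
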